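import Mathlib.RingTheory.Smooth.StandardSmooth
import Mathlib.RingTheory.Extension.Presentation.Submersive
import Mathlib.RingTheory.Kaehler.Basic
import Mathlib.RingTheory.FiniteType
import Mathlib.RingTheory.TensorProduct.Finite
import Mathlib.RingTheory.LocalRing.ResidueField.Ideal
import Mathlib.LinearAlgebra.Matrix.Rank
import Mathlib.LinearAlgebra.Matrix.NonsingularInverse
import Mathlib.Algebra.MvPolynomial.PDeriv

/-!
# Closed immersions into smooth schemes of minimal relative dimension

If `Ω_{B/A} ⊗ κ(q)` has dimension at most `p`, then some `B_g`, `g ∉ q`, is a quotient of a standard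
smooth `A`-algebra of relative dimension `p`.
-/

set_option autoImplicit false
set_option linter.style.haveILetI false

universe u

open TensorProduct MvPolynomial

namespace Groth.Agent.SmoothEmb.Basic

variable {A B : Type u} [CommRing A] [CommRing B] [Algebra A B]

/-- The Jacobian vector at `q`. -/
noncomputable def jac {m : ℕ} (φ : MvPolynomial (Fin m) A →ₐ[A] B) (q : Ideal B) [q.IsPrime] :
    MvPolynomial (Fin m) A →ₗ[A] (Fin m → q.ResidueField) :=
  LinearMap.pi fun i =>
    ((IsScalarTower.toAlgHom A B q.ResidueField).comp φ).toLinearMap ∘ₗ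
      (pderiv i).toLinearMap

theorem jac_apply {m : ℕ} (φ : MvPolynomial (Fin m) A →ₐ[A] B) (q : Ideal B) [q.IsPrime]
    (F : MvPolynomial (Fin m) A) (i : Fin m) :
    jac φ q F i = algebraMap B q.ResidueField (φ (pderiv i F)) := rfl

theorem jac_mul {m : ℕ} (φ : MvPolynomial (Fin m) A →ₐ[A] B) (q : Ideal B) [q.IsPrime]
    (F G : MvPolynomial (Fin m) A) : jac φ q (F * G) = φ F • jac φ q G + φ G • jac φ q F := by
  funext i
  rw [Pi.add_apply, Pi.smul_apply, Pi.smul_apply]
  simp only [jac_apply, Algebra.smul_def, pderiv_mul, map_add, map_mul]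
  ring

theorem finrank_jac_ker {m : ℕ} (φ : MvPolynomial (Fin m) A →ₐ[A] B) (hφ : Function.Surjective φ)
    (q : Ideal B) [q.IsPrime] [Algebra.FiniteType A B] :
    m ≤ Module.finrank q.ResidueField
        (Submodule.span q.ResidueField (jac φ q '' {F | φ F = 0})) +
      Module.finrank q.ResidueField (q.ResidueField ⊗[B] Ω[B⁄A]) := by
  set κ := q.ResidueField
  set W := Submodule.span κ (jac φ q '' {F | φ F = 0})
  let σ := Function.surjInv hφ
  let δ₀ : B → (Fin m → κ) ⧸ W := fun b => W.mkQ (jac φ q (σ b))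
  have hwd : ∀ F, δ₀ (φ F) = W.mkQ (jac φ q F) := fun F => by
    refine ((Submodule.Quotient.eq W).mpr ?_)
    rw [← map_sub]
    exact Submodule.subset_span ⟨_, by
      show φ (σ (φ F) - F) = 0
      rw [map_sub, Function.surjInv_eq hφ, sub_self], rfl⟩
  let δl : B →ₗ[A] (Fin m → κ) ⧸ W :=
    { toFun := δ₀
      map_add' := fun x y => by
        obtain ⟨F, rfl⟩ := hφ x
        obtain ⟨G, rfl⟩ := hφ y
        rw [← map_add, hwd, hwd, hwd, map_add, map_add]
      map_smul' := fun a x => by
        obtain ⟨F, rfl⟩ := hφ x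
        rw [← map_smul, hwd, hwd, RingHom.id_apply, map_smul, LinearMap.map_smul_of_tower] }
  let δ : Derivation A B ((Fin m → κ) ⧸ W) := Derivation.mk' δl fun x y => by
    obtain ⟨F, rfl⟩ := hφ x
    obtain ⟨G, rfl⟩ := hφ y
    show δ₀ _ = φ F • δ₀ _ + φ G • δ₀ _
    rw [← map_mul, hwd, hwd, hwd, jac_mul, map_add, LinearMap.map_smul_of_tower,
      LinearMap.map_smul_of_tower]
  let T : κ ⊗[B] Ω[B⁄A] →ₗ[κ] (Fin m → κ) ⧸ W :=
    LinearMap.liftBaseChange κ δ.liftKaehlerDifferential
  have hT : Function.Surjective T := by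
    rw [← LinearMap.range_eq_top, eq_top_iff]
    intro y _
    obtain ⟨v, rfl⟩ := W.mkQ_surjective y
    rw [pi_eq_sum_univ v, map_sum]
    refine sum_mem fun i _ => ?_
    rw [map_smul]
    refine Submodule.smul_mem _ _ ⟨1 ⊗ₜ KaehlerDifferential.D A B (φ (X i)), ?_⟩
    rw [LinearMap.liftBaseChange_tmul, one_smul, Derivation.liftKaehlerDifferential_comp_D]
    show δ₀ _ = _
    rw [hwd]
    congr 1
    funext j
    rw [jac_apply]
    by_cases h : i = j
    · subst h; simp
    · simp [h, pderiv_X_of_ne h]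
  haveI : Module.Finite κ (κ ⊗[B] Ω[B⁄A]) := inferInstance
  have h1 : Module.finrank κ ((Fin m → κ) ⧸ W) ≤ Module.finrank κ (κ ⊗[B] Ω[B⁄A]) := by
    rw [← LinearMap.finrank_range_of_inj (f := LinearMap.id (R := κ)) Function.injective_id]
    rw [LinearMap.range_id, ← LinearMap.range_eq_top.mpr hT]
    exact LinearMap.finrank_range_le T
  have h2 : Module.finrank κ ((Fin m → κ) ⧸ W) + Module.finrank κ W = m :=
    W.finrank_quotient_add_finrank.trans (Module.finrank_fin_fun κ)
  show m ≤ Module.finrank κ W + Module.finrank κ (κ ⊗[B] Ω[B⁄A])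
  omega

/-- `n` independent vectors in `κ ^ m` have an invertible maximal minor. -/
theorem exists_minor {κ : Type*} [Field κ] {n m : ℕ} (v : Fin n → Fin m → κ)
    (hv : LinearIndependent κ v) :
    ∃ σ : Fin n → Fin m, Function.Injective σ ∧ (Matrix.of fun i j => v i (σ j)).det ≠ 0 := by
  let M : Matrix (Fin n) (Fin m) κ := Matrix.of v
  have hr : Module.finrank κ (Submodule.span κ (Set.range M.col)) = n := by
    rw [← Matrix.rank_eq_finrank_span_cols, LinearIndependent.rank_matrix (M := M) hv,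
      Fintype.card_fin]
  obtain ⟨f, hf, -, hli⟩ := Submodule.exists_fun_fin_finrank_span_eq κ (Set.range M.col)
  let f' : Fin n → (Fin n → κ) := fun i => f (Fin.cast hr.symm i)
  have hli' : LinearIndependent κ f' := hli.comp _ (Fin.cast_injective _)
  choose σ hσ using fun i : Fin n => hf (Fin.cast hr.symm i)
  refine ⟨σ, fun i j h => hli'.injective ((hσ i).symm.trans ((congrArg M.col h).trans (hσ j))), ?_⟩
  have h1 : (Matrix.of fun i j => v i (σ j)).col = f' := funext fun j => hσ j
  have h2 := Matrix.linearIndependent_cols_iff_isUnit.mp (h1 ▸ hli')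
  exact ((Matrix.isUnit_iff_isUnit_det _).mp h2).ne_zero

/-- Some `B_g` is a quotient of a standard smooth algebra of relative dimension `p`. -/
theorem exists_surjection_standardSmooth (A B : Type u) [CommRing A] [CommRing B] [Algebra A B]
    [Algebra.FiniteType A B] (q : Ideal B) [q.IsPrime] (p : ℕ)
    (hp : Module.finrank q.ResidueField (q.ResidueField ⊗[B] Ω[B⁄A]) ≤ p) :
    ∃ g : B, g ∉ q ∧ ∃ (D : Type u) (_ : CommRing D) (_ : Algebra A D),
      Algebra.IsStandardSmoothOfRelativeDimension p A D ∧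
        ∃ φ : D →ₐ[A] Localization.Away g, Function.Surjective φ := by
  obtain ⟨n, φn, hφn⟩ := (Algebra.FiniteType.iff_quotient_mvPolynomial'' (R := A) (S := B)).mp inferInstance
  let φ : MvPolynomial (Fin (n + p)) A →ₐ[A] B := aeval (Fin.append (fun i => φn (X i)) 0)
  have hφ : Function.Surjective φ := by
    intro b
    obtain ⟨F, rfl⟩ := hφn b
    refine ⟨rename (Fin.castAdd p) F, ?_⟩
    rw [aeval_rename]
    have : φn = aeval (fun i => φn (X i)) := (MvPolynomial.aeval_unique φn)
    conv_rhs => rw [this]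
    congr 2
    funext i
    simp
  have hW := finrank_jac_ker φ hφ q
  obtain ⟨f, hf, -, hli⟩ := Submodule.exists_fun_fin_finrank_span_eq q.ResidueField
    (jac φ q '' {F | φ F = 0})
  have hle : n ≤ Module.finrank q.ResidueField
      (Submodule.span q.ResidueField (jac φ q '' {F | φ F = 0})) := by omega
  let ι := Fin.castLE hle
  choose F hF hFv using fun i : Fin n => hf (ι i)
  have hliF : LinearIndependent q.ResidueField fun i => jac φ q (F i) := by
    have := hli.comp ι (Fin.castLE_injective _)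
    rwa [show (fun i => jac φ q (F i)) = f ∘ ι from funext fun i => hFv i]
  obtain ⟨σ, hσ, hdet⟩ := exists_minor _ hliF
  let S₀ := MvPolynomial (Fin (n + p)) A ⧸ Ideal.span (Set.range F)
  let P₀ : Algebra.PreSubmersivePresentation A S₀ (Fin (n + p)) (Fin n) :=
    Algebra.PreSubmersivePresentation.naive σ hσ
  let φ₀ : S₀ →ₐ[A] B := Ideal.Quotient.liftₐ _ φ fun x hx => by
    have h1 : Ideal.span (Set.range F) ≤ RingHom.ker φ.toRingHom :=
      Ideal.span_le.2 (Set.range_subset_iff.2 fun i => hF i)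
    exact h1 hx
  have hg : φ₀ P₀.jacobian ∉ q := by
    rw [← Ideal.algebraMap_residueField_eq_zero, P₀.jacobian_eq_jacobiMatrix_det]
    change algebraMap B q.ResidueField (φ₀ (Ideal.Quotient.mk _ P₀.jacobiMatrix.det)) ≠ 0
    change algebraMap B q.ResidueField (φ P₀.jacobiMatrix.det) ≠ 0
    rw [AlgHom.map_det, RingHom.map_det, ← Matrix.det_transpose]
    refine ne_of_eq_of_ne ?_ hdet
    congr 1
    ext i j
    simp only [RingHom.mapMatrix_apply, AlgHom.mapMatrix_apply, Matrix.transpose_apply, Matrix.map_apply,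
      Matrix.of_apply, jac_apply]
    rw [Algebra.PreSubmersivePresentation.jacobiMatrix_naive]
  let D := Localization.Away P₀.jacobian
  have hD : Algebra.IsStandardSmoothOfRelativeDimension p A D := by
    have hΔ : IsUnit (algebraMap S₀ D P₀.jacobian) := IsLocalization.Away.algebraMap_isUnit _
    let Q : Algebra.SubmersivePresentation A D _ _ :=
      { toPreSubmersivePresentation := .comp (.localizationAway D P₀.jacobian) P₀,
        jacobian_isUnit := by simpa [Algebra.smul_def, -isUnit_map_iff, hΔ] }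
    refine ⟨_, _, inferInstance, inferInstance, Q, ?_⟩
    simp [Q, Algebra.PreSubmersivePresentation.dimension_comp_eq_dimension_add_dimension,
      Algebra.Presentation.dimension]
    omega
  let ψ₀ : S₀ →ₐ[A] Localization.Away (φ₀ P₀.jacobian) :=
    (IsScalarTower.toAlgHom A B _).comp φ₀
  let ψ : D →ₐ[A] Localization.Away (φ₀ P₀.jacobian) :=
    IsLocalization.Away.liftAlgHom (f := ψ₀) P₀.jacobian
      (IsLocalization.Away.algebraMap_isUnit (φ₀ P₀.jacobian))
  have hψ : ∀ x, ψ (algebraMap S₀ D x) = ψ₀ x := fun x => IsLocalization.lift_eq _ x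
  refine ⟨φ₀ P₀.jacobian, hg, D, inferInstance, inferInstance, hD, ψ, fun z => ?_⟩
  obtain ⟨k, b, hb⟩ := IsLocalization.Away.surj (φ₀ P₀.jacobian) z
  obtain ⟨G, rfl⟩ := hφ b
  obtain ⟨t, ht⟩ := (IsLocalization.Away.algebraMap_isUnit (S := D) P₀.jacobian).pow k
  refine ⟨algebraMap S₀ D (Ideal.Quotient.mk _ G) * ↑t⁻¹, ?_⟩
  have hu : ψ ((t : D)) * ψ ↑t⁻¹ = 1 := by rw [← map_mul, Units.mul_inv, map_one]
  have htv : ψ (t : D) = algebraMap B _ (φ₀ P₀.jacobian) ^ k := by
    rw [ht, map_pow, hψ]; rfl
  rw [map_mul, hψ]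
  show algebraMap B _ (φ G) * _ = z
  rw [← hb, ← htv, mul_assoc, hu, mul_one]

end Groth.Agent.SmoothEmb.Basic
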